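import Mathlib
import Cfsg.Prelude.Def_CaseTheorems
import Cfsg.Agent.Lib.CharP.Basic
import Cfsg.Agent.Lib.PGroup.Critical
import Cfsg.Agent.Lib.Coprime.Generation
import Cfsg.Agent.Lib.ConjFunctor.Basic

/-!
In a group of characteristic 2 type a normal four-group of a Sylow 2-subgroup centralises the odd
order subgroups it normalises.
-/

set_option autoImplicit false

namespace Cfsg.Agent.Lib.FourCentralises

open Cfsg Subgroup

variable {G : Type*} [Group G] [Finite G]

omit [Finite G] in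
theorem normalizer_zpowers_eq {x : G} (hx : x * x = 1) (hx1 : x ≠ 1) :
    Subgroup.normalizer (zpowers x : Set G) = centralizer {x} := by
  have hmem : ∀ y ∈ zpowers x, y = 1 ∨ y = x := by
    intro y hy
    obtain ⟨i, rfl⟩ := mem_zpowers_iff.mp hy
    rcases Int.even_or_odd i with ⟨j, rfl⟩ | ⟨j, rfl⟩
    · left; rw [← two_mul, zpow_mul, zpow_two, hx, one_zpow]
    · right; rw [zpow_add, zpow_mul, zpow_two, hx, one_zpow, one_mul, zpow_one]
  apply le_antisymm
  · intro g hg
    rw [mem_centralizer_singleton_iff]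
    rcases hmem _ ((mem_normalizer_iff.mp hg x).mp (mem_zpowers x)) with h | h
    · exact absurd (conj_eq_one_iff.mp h) hx1
    · exact mul_inv_eq_iff_eq_mul.mp h
  · intro g hg
    rw [mem_centralizer_singleton_iff] at hg
    rw [mem_normalizer_iff]
    intro y
    have hgx : g * x * g⁻¹ = x := mul_inv_eq_iff_eq_mul.mpr hg
    constructor
    · intro hy
      rcases hmem y hy with h | h <;> subst h
      · simp
      · rw [hgx]; exact mem_zpowers _
    · intro hy
      rcases hmem _ hy with h | h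
      · rw [conj_eq_one_iff.mp h]; exact one_mem _
      · have : y = x := mul_left_cancel (mul_right_cancel (h.trans hgx.symm))
        rw [this]; exact mem_zpowers _

/-- `C(x)` has `C(O₂) ≤ O₂` for an involution `x`. -/
theorem centralizer_charTwo (h2 : IsCharacteristicTwoType G) {x : G} (hx : x * x = 1) (hx1 : x ≠ 1)
    {c : G} (hc : c ∈ centralizer {x})
    (hcR : ∀ r ∈ pCoreOf 2 (centralizer {x}), r * c = c * r) :
    c ∈ pCoreOf 2 (centralizer {x}) := by
  haveI : Fact (Nat.Prime 2) := ⟨Nat.prime_two⟩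
  have hp : IsPGroup 2 (zpowers x) := IsPGroup.of_card (n := 1) (by
    rw [Nat.card_zpowers, pow_one]
    exact orderOf_eq_prime (by rwa [sq]) hx1)
  have h := h2.2 (zpowers x) hp (by rwa [Ne, zpowers_eq_bot])
  rw [normalizer_zpowers_eq hx hx1] at h
  refine ⟨⟨c, hc⟩, h (mem_centralizer_iff.mpr fun r hr => ?_), rfl⟩
  exact Subtype.ext (hcR _ ⟨r, hr, rfl⟩)

/-- An element stabilising `O₂(C(x)) ≥ ⟨x⟩ ≥ 1` lies in `O₂(C(x))`. -/
theorem mem_pCoreOf_of_stabilizes (h2 : IsCharacteristicTwoType G) {x : G} (hx : x * x = 1)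
    (hx1 : x ≠ 1) {c : G} (hc : c ∈ centralizer {x})
    (hcR : ∀ r ∈ pCoreOf 2 (centralizer {x}),
      c * r * c⁻¹ * r⁻¹ = 1 ∨ c * r * c⁻¹ * r⁻¹ = x) :
    c ∈ pCoreOf 2 (centralizer {x}) := by
  haveI : Fact (Nat.Prime 2) := ⟨Nat.prime_two⟩
  set N := centralizer ({x} : Set G) with hN
  set R := pCoreOf 2 N with hR
  let S : Subgroup G :=
    { carrier := {c | c ∈ N ∧ ∀ r ∈ R, c * r * c⁻¹ * r⁻¹ ∈ zpowers x}
      one_mem' := ⟨N.one_mem, fun r _ => by simp⟩
      mul_mem' := fun {a b} ha hb => ⟨N.mul_mem ha.1 hb.1, fun r hr => by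
        obtain ⟨i, hi⟩ := mem_zpowers_iff.mp (hb.2 r hr)
        have hax : a * x * a⁻¹ = x :=
          mul_inv_eq_iff_eq_mul.mpr (mem_centralizer_singleton_iff.mp ha.1)
        have e : a * b * r * (a * b)⁻¹ * r⁻¹ =
            (a * (b * r * b⁻¹ * r⁻¹) * a⁻¹) * (a * r * a⁻¹ * r⁻¹) := by group
        rw [e, ← hi, ← conj_zpow, hax]
        exact mul_mem (zpow_mem (mem_zpowers x) i) (ha.2 r hr)⟩
      inv_mem' := fun {a} ha => ⟨N.inv_mem ha.1, fun r hr => by
        obtain ⟨i, hi⟩ := mem_zpowers_iff.mp (ha.2 r hr)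
        have hax : a⁻¹ * x * a⁻¹⁻¹ = x :=
          mul_inv_eq_iff_eq_mul.mpr (mem_centralizer_singleton_iff.mp (N.inv_mem ha.1))
        have e : a⁻¹ * r * a⁻¹⁻¹ * r⁻¹ = (a⁻¹ * (a * r * a⁻¹ * r⁻¹) * a⁻¹⁻¹)⁻¹ := by group
        rw [e, ← hi, ← conj_zpow, hax]
        exact inv_mem (zpow_mem (mem_zpowers x) i)⟩ }
  have hSN : S ≤ N := fun a ha => ha.1
  have hnorm : N ≤ Subgroup.normalizer (S : Set G) := by
    have key : ∀ g ∈ N, ∀ a ∈ S, g * a * g⁻¹ ∈ S := by
      intro g hg a ha
      refine ⟨N.mul_mem (N.mul_mem hg ha.1) (N.inv_mem hg), fun r hr => ?_⟩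
      have hr' : g⁻¹ * r * g ∈ R := by
        have := (mem_normalizer_iff.mp (CharP.le_normalizer_pCoreOf N (N.inv_mem hg)) r).mp hr
        rwa [inv_inv] at this
      obtain ⟨i, hi⟩ := mem_zpowers_iff.mp (ha.2 _ hr')
      have hgx : g * x * g⁻¹ = x :=
        mul_inv_eq_iff_eq_mul.mpr (mem_centralizer_singleton_iff.mp hg)
      have e : g * a * g⁻¹ * r * (g * a * g⁻¹)⁻¹ * r⁻¹ =
          g * (a * (g⁻¹ * r * g) * a⁻¹ * (g⁻¹ * r * g)⁻¹) * g⁻¹ := by group
      rw [e, ← hi, ← conj_zpow, hgx]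
      exact zpow_mem (mem_zpowers x) i
    intro g hg
    rw [mem_normalizer_iff]
    intro a
    refine ⟨key g hg a, fun ha => ?_⟩
    have h := key g⁻¹ (N.inv_mem hg) _ ha
    rwa [show g⁻¹ * (g * a * g⁻¹) * g⁻¹⁻¹ = a by group] at h
  have hS : IsPGroup 2 S := by
    rintro ⟨a, ha⟩
    have hsq : ∀ r ∈ R, r * a ^ 2 = a ^ 2 * r := by
      intro r hr
      obtain ⟨i, hi⟩ := mem_zpowers_iff.mp (ha.2 r hr)
      have hax : a * x * a⁻¹ = x :=
        mul_inv_eq_iff_eq_mul.mpr (mem_centralizer_singleton_iff.mp ha.1)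
      have h1 : a * r * a⁻¹ = x ^ i * r := by rw [hi]; group
      have h3 : a ^ 2 * r * (a ^ 2)⁻¹ = r := by
        calc a ^ 2 * r * (a ^ 2)⁻¹ = a * (a * r * a⁻¹) * a⁻¹ := by rw [sq]; group
          _ = a * (x ^ i * r) * a⁻¹ := by rw [h1]
          _ = (a * x * a⁻¹) ^ i * (a * r * a⁻¹) := by rw [conj_zpow]; group
          _ = r := by
            rw [hax, h1, ← mul_assoc, ← zpow_add, ← two_mul, zpow_mul, zpow_two, hx, one_zpow,
              one_mul]
      exact (mul_inv_eq_iff_eq_mul.mp h3).symm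
    obtain ⟨k, hk⟩ := CharP.pCoreOf_isPGroup (p := 2) N ⟨a ^ 2,
      centralizer_charTwo h2 hx hx1 (N.pow_mem ha.1 2) hsq⟩
    refine ⟨k + 1, Subtype.ext ?_⟩
    show a ^ 2 ^ (k + 1) = 1
    rw [pow_succ', pow_mul]
    exact congrArg Subtype.val hk
  have hmem : c ∈ S := ⟨hc, fun r hr => by
    rcases hcR r hr with h | h <;> rw [h]
    · exact one_mem _
    · exact mem_zpowers x⟩
  exact CharP.le_pCoreOf hSN hS hnorm hmem

omit [Finite G] in
/-- A four-group. -/
theorem klein_cases {U : Subgroup G} (hU : IsKleinFour ↥U) {a b : G} (ha : a ∈ U) (hb : b ∈ U)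
    (ha1 : a ≠ 1) (hb1 : b ≠ 1) (hab : a ≠ b) {y : G} (hy : y ∈ U) :
    y = 1 ∨ y = a ∨ y = b ∨ y = a * b := by
  haveI := hU
  by_cases h1 : y = 1
  · exact Or.inl h1
  by_cases h2 : y = a
  · exact Or.inr (Or.inl h2)
  by_cases h3 : y = b
  · exact Or.inr (Or.inr (Or.inl h3))
  refine Or.inr (Or.inr (Or.inr ?_))
  have := IsKleinFour.eq_mul_of_ne_all (G := U) (x := ⟨a, ha⟩) (y := ⟨b, hb⟩) (z := ⟨y, hy⟩)
    (fun h => ha1 (congrArg Subtype.val h)) (fun h => hb1 (congrArg Subtype.val h))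
    (fun h => hab (congrArg Subtype.val h)) (fun h => h1 (congrArg Subtype.val h))
    (fun h => h2 (congrArg Subtype.val h)) (fun h => h3 (congrArg Subtype.val h))
  exact congrArg Subtype.val this

theorem centralizes (h2 : IsCharacteristicTwoType G) (P : Sylow 2 G) (U : Subgroup G)
    (hUP : U ≤ (P : Subgroup G))
    (hUn : (P : Subgroup G) ≤ Subgroup.normalizer (U : Set G)) (hU4 : IsKleinFour ↥U)
    (hUZ : ¬ IsCyclic ↥((P : Subgroup G) ⊓ centralizer ((P : Subgroup G) : Set G)) →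
      U ≤ centralizer ((P : Subgroup G) : Set G))
    (K : Subgroup G) (hK : Odd (Nat.card K)) (hUK : U ≤ Subgroup.normalizer (K : Set G)) :
    U ≤ centralizer (K : Set G) := by
  haveI : Fact (Nat.Prime 2) := ⟨Nat.prime_two⟩
  haveI := hU4
  have hcomm : ∀ a ∈ U, ∀ b ∈ U, a * b = b * a := fun a ha b hb =>
    congrArg Subtype.val (mul_comm_of_exponent_two IsKleinFour.exponent_two (⟨a, ha⟩ : U) ⟨b, hb⟩)
  have hsq : ∀ a ∈ U, a * a = 1 := fun a ha =>
    congrArg Subtype.val (IsKleinFour.mul_self (⟨a, ha⟩ : U))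
  have hUcard : Nat.card U = 4 := IsKleinFour.card_four
  -- a central involution of `P` in `U`
  obtain ⟨u, huU, hu1, huc⟩ : ∃ u ∈ U, u ≠ 1 ∧ ∀ g ∈ (P : Subgroup G), g * u = u * g := by
    haveI : (U.subgroupOf (P : Subgroup G)).Normal := normal_subgroupOf_of_le_normalizer hUn
    have hne : U.subgroupOf (P : Subgroup G) ≠ ⊥ := fun h => by
      rw [subgroupOf_eq_bot, disjoint_iff, inf_eq_left.mpr hUP] at h
      rw [h, card_bot] at hUcard
      omega
    obtain ⟨z, hz, hzc, hz1⟩ := Critical.exists_center_mem P.2 hne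
    exact ⟨z, hz, fun h => hz1 (Subtype.ext h), fun g hg =>
      congrArg Subtype.val (mem_center_iff.mp hzc ⟨g, hg⟩)⟩
  -- every involution of `U` has a partner in `O₂` of its centraliser
  have key : ∀ x ∈ U, x ≠ 1 → ∃ v ∈ U, v ≠ 1 ∧ v ≠ x ∧ v ∈ pCoreOf 2 (centralizer {x}) := by
    intro x hxU hx1
    set N := centralizer ({x} : Set G) with hN
    set R := pCoreOf 2 N with hR
    have hRN : R ≤ N := CharP.pCoreOf_le N
    have hvN : ∀ v ∈ U, v ∈ N := fun v hv =>
      mem_centralizer_singleton_iff.mpr (hcomm v hv x hxU)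
    by_cases hxc : ∀ g ∈ (P : Subgroup G), g * x = x * g
    · obtain ⟨v, hvU, hv1, hvx⟩ : ∃ v ∈ U, v ≠ 1 ∧ v ≠ x := by
        by_contra h
        push Not at h
        have hle : U ≤ zpowers x := fun v hv => by
          by_cases hv1 : v = 1
          · rw [hv1]; exact one_mem _
          · rw [h v hv hv1]; exact mem_zpowers x
        have := card_le_of_le hle
        rw [hUcard, Nat.card_zpowers, orderOf_eq_prime (by rw [sq]; exact hsq x hxU) hx1] at this
        omega
      refine ⟨v, hvU, hv1, hvx, mem_pCoreOf_of_stabilizes h2 (hsq x hxU) hx1 (hvN v hvU) ?_⟩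
      intro r hr
      -- `R` is contained in a conjugate of `P` inside `C(x)`, hence normalises `U`
      have hRP : R ≤ (P : Subgroup G) := by
        have hPN : (P : Subgroup G) ≤ N := fun g hg => mem_centralizer_singleton_iff.mpr (hxc g hg)
        have hp : IsPGroup 2 ↥(R ⊔ (P : Subgroup G)) :=
          (CharP.pCoreOf_isPGroup N).to_sup_of_normal_left' P.2
            (hPN.trans (CharP.le_normalizer_pCoreOf N))
        have := P.is_maximal' hp le_sup_right
        exact this ▸ le_sup_left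
      have hrv : r * v * r⁻¹ ∈ U := (mem_normalizer_iff.mp (hUn (hRP hr)) v).mp hvU
      have hrx : r * x * r⁻¹ = x :=
        mul_inv_eq_iff_eq_mul.mpr (mem_centralizer_singleton_iff.mp (hRN hr))
      rcases klein_cases hU4 hxU hvU hx1 hv1 (Ne.symm hvx) hrv with h | h | h | h
      · exact absurd (conj_eq_one_iff.mp h) hv1
      · exact absurd (mul_left_cancel (mul_right_cancel (h.trans hrx.symm))) hvx
      · left
        rw [show v * r * v⁻¹ * r⁻¹ = v * (r * v * r⁻¹)⁻¹ by group, h, mul_inv_cancel]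
      · right
        rw [show v * r * v⁻¹ * r⁻¹ = v * (r * v * r⁻¹)⁻¹ by group, h, mul_inv_rev,
          mul_inv_cancel_left, inv_eq_of_mul_eq_one_right (hsq x hxU)]
    -- `x` is not central in `P`
    have hxu : x ≠ u := fun h => hxc (h ▸ huc)
    have hcyc : IsCyclic ↥((P : Subgroup G) ⊓ centralizer ((P : Subgroup G) : Set G)) := by
      by_contra h
      exact hxc fun g hg => mem_centralizer_iff.mp (hUZ h hxU) g hg
    refine ⟨u, huU, hu1, Ne.symm hxu, mem_pCoreOf_of_stabilizes h2 (hsq x hxU) hx1 (hvN u huU) ?_⟩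
    intro r hr
    set T := (P : Subgroup G) ⊓ N with hT
    have hRT : IsPGroup 2 ↥(R ⊔ T) :=
      (CharP.pCoreOf_isPGroup N).to_sup_of_normal_left' (P.2.to_le inf_le_left)
        ((inf_le_right : T ≤ N).trans (CharP.le_normalizer_pCoreOf N))
    have hcom : ∀ a ∈ T, a * u = u * a := fun a ha => huc a (mem_inf.mp ha).1
    have hxT : x ∈ T := mem_inf.mpr ⟨hUP hxU, hvN x hxU⟩
    have huT : u ∈ T := mem_inf.mpr ⟨hUP huU, hvN u huU⟩
    by_cases hrT : r ∈ T
    · left
      rw [← hcom r hrT]; group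
    obtain ⟨Q, hQ⟩ := hRT.exists_le_sylow
    -- `[P : T] ≤ 2`
    have hTidx : Nat.card (P : Subgroup G) ≤ 2 * Nat.card T := by
      obtain ⟨g, hgP, hgx⟩ : ∃ g ∈ (P : Subgroup G), g * x ≠ x * g := by simpa using hxc
      have hconj : ∀ b ∈ (P : Subgroup G), b * x * b⁻¹ = x ∨ b * x * b⁻¹ = x * u := by
        intro b hb
        have hb' : b * x * b⁻¹ ∈ U := (mem_normalizer_iff.mp (hUn hb) x).mp hxU
        rcases klein_cases hU4 hxU huU hx1 hu1 hxu hb' with h | h | h | h
        · exact absurd (conj_eq_one_iff.mp h) hx1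
        · exact Or.inl h
        · have hbu : b * u * b⁻¹ = u := mul_inv_eq_iff_eq_mul.mpr (huc b hb)
          exact absurd (mul_left_cancel (mul_right_cancel (h.trans hbu.symm))) hxu
        · exact Or.inr h
      have hg : g * x * g⁻¹ = x * u := (hconj g hgP).resolve_left fun h =>
        hgx (mul_inv_eq_iff_eq_mul.mp h)
      have hidx : (T.subgroupOf (P : Subgroup G)).index = 2 := by
        rw [Subgroup.index_eq_two_iff]
        refine ⟨⟨g, hgP⟩, fun b => ?_⟩
        have hbm : ∀ b : (P : Subgroup G), b ∈ T.subgroupOf (P : Subgroup G) ↔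
            (b : G) * x * (b : G)⁻¹ = x := fun b => by
          rw [mem_subgroupOf, hT, mem_inf, hN, mem_centralizer_singleton_iff,
            mul_inv_eq_iff_eq_mul]
          exact and_iff_right b.2
        have h1 : ∀ b : (P : Subgroup G), ((b * ⟨g, hgP⟩ : (P : Subgroup G)) : G) * x *
            ((b * ⟨g, hgP⟩ : (P : Subgroup G)) : G)⁻¹ = (b : G) * x * (b : G)⁻¹ * u := fun b => by
          have hbu : (b : G) * u * (b : G)⁻¹ = u := mul_inv_eq_iff_eq_mul.mpr (huc b b.2)
          rw [Subgroup.coe_mul]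
          calc (b : G) * g * x * ((b : G) * g)⁻¹ = (b : G) * (g * x * g⁻¹) * (b : G)⁻¹ := by group
            _ = ((b : G) * x * (b : G)⁻¹) * ((b : G) * u * (b : G)⁻¹) := by rw [hg]; group
            _ = _ := by rw [hbu]
        rcases hconj b b.2 with hb | hb
        · refine Or.inr ⟨(hbm b).mpr hb, fun h => ?_⟩
          have h3 := (hbm _).mp h
          rw [h1 b, hb, mul_eq_left] at h3
          exact hu1 h3
        · refine Or.inl ⟨(hbm _).mpr ?_, fun h => ?_⟩
          · rw [h1 b, hb, mul_assoc, hsq u huU, mul_one]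
          · have h3 := (hbm b).mp h
            rw [hb, mul_eq_left] at h3
            exact hu1 h3
      have := (T.subgroupOf (P : Subgroup G)).card_mul_index
      have hTle : T ≤ (P : Subgroup G) := inf_le_left
      rw [hidx, Nat.card_congr (subgroupOfEquivOfLe hTle).toEquiv] at this
      omega
    -- `R ⊔ T` is a Sylow subgroup of `G` and `T` has index two in it
    have hlt : T < R ⊔ T := lt_of_le_of_ne le_sup_right fun h => hrT (by
      rw [h]; exact mem_sup_left hr)
    have hQcard : Nat.card (Q : Subgroup G) = Nat.card (P : Subgroup G) := by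
      rw [Q.card_eq_multiplicity, P.card_eq_multiplicity]
    have hdvd : 2 * Nat.card T ≤ Nat.card ↥(R ⊔ T) := by
      obtain ⟨i, hi⟩ := IsPGroup.iff_card.mp (P.2.to_le (inf_le_left : T ≤ (P : Subgroup G)))
      obtain ⟨j, hj⟩ := IsPGroup.iff_card.mp hRT
      have hl := ConjFunctor.card_lt_card_of_lt hlt
      rw [hi, hj] at hl ⊢
      rw [← pow_succ']
      exact Nat.pow_le_pow_right (by norm_num) ((Nat.pow_lt_pow_iff_right (by norm_num)).mp hl)
    have hQeq : R ⊔ T = (Q : Subgroup G) :=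
      Subgroup.eq_of_le_of_card_ge hQ (hQcard ▸ hTidx.trans hdvd)
    have hQc : Nat.card (Q : Subgroup G) = 2 * Nat.card T :=
      le_antisymm (hQcard ▸ hTidx) (hQeq ▸ hdvd)
    have hTQ : T ≤ (Q : Subgroup G) := hQeq ▸ le_sup_right
    have hidxQ : (T.subgroupOf (Q : Subgroup G)).index = 2 := by
      have h := (T.subgroupOf (Q : Subgroup G)).card_mul_index
      rw [Nat.card_congr (subgroupOfEquivOfLe hTQ).toEquiv, hQc, mul_comm 2] at h
      exact Nat.eq_of_mul_eq_mul_left Nat.card_pos h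
    haveI := Subgroup.normal_of_index_eq_two hidxQ
    have hrQ : r ∈ (Q : Subgroup G) := hQeq ▸ mem_sup_left hr
    have hr2 : r * r ∈ T :=
      Subgroup.mem_subgroupOf.mp (Subgroup.mul_self_mem_of_index_two hidxQ ⟨r, hrQ⟩)
    have hnormT : ∀ a ∈ T, r * a * r⁻¹ ∈ T := fun a ha =>
      Subgroup.mem_subgroupOf.mp
        ((inferInstance : (T.subgroupOf (Q : Subgroup G)).Normal).conj_mem ⟨a, hTQ ha⟩ ha ⟨r, hrQ⟩)
    set w := r * u * r⁻¹ with hw
    have hwT : w ∈ T := hnormT u huT
    have hwc : ∀ a ∈ T, a * w = w * a := by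
      intro a ha
      have ha' : r⁻¹ * a * r ∈ T := by
        have h := Subgroup.mem_subgroupOf.mp ((inferInstance : (T.subgroupOf (Q : Subgroup G)).Normal).conj_mem ⟨a, hTQ ha⟩ ha ⟨r⁻¹, inv_mem hrQ⟩)
        simpa using h
      calc a * w = r * ((r⁻¹ * a * r) * u) * r⁻¹ := by rw [hw]; group
        _ = r * (u * (r⁻¹ * a * r)) * r⁻¹ := by rw [hcom _ ha']
        _ = w * a := by rw [hw]; group
    have hw2 : w * w = 1 := by
      rw [hw, show r * u * r⁻¹ * (r * u * r⁻¹) = r * (u * u) * r⁻¹ by group, hsq u huU]; group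
    set d := w * u with hd
    have hd2 : d * d = 1 := by
      rw [hd, mul_assoc, ← mul_assoc u w u, ← hcom w hwT, mul_assoc w u u, hsq u huU, mul_one, hw2]
    have hrd : r * d = d * r := by
      have h1 : r * w * r⁻¹ = u := by
        calc r * w * r⁻¹ = r * r * u * (r * r)⁻¹ := by rw [hw]; group
          _ = u := by rw [hcom _ hr2, mul_inv_cancel_right]
      calc r * d = (r * w * r⁻¹) * (r * u * r⁻¹) * r := by rw [hd]; group
        _ = u * w * r := by rw [h1]
        _ = d * r := by rw [hd, hcom w hwT]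
    have hdT : ∀ a ∈ T, a * d = d * a := fun a ha => by
      rw [hd, ← mul_assoc, hwc a ha, mul_assoc, hcom a ha, ← mul_assoc]
    have hxR : ∀ a ∈ R ⊔ T, a * x = x * a := fun a ha =>
      mem_centralizer_singleton_iff.mp ((sup_le hRN inf_le_right : R ⊔ T ≤ N) ha)
    have hdQ : ∀ a ∈ (Q : Subgroup G), a * d = d * a := by
      have hle : T ⊔ zpowers r ≤ centralizer {d} := sup_le
        (fun a ha => mem_centralizer_singleton_iff.mpr (hdT a ha))
        (zpowers_le.mpr (mem_centralizer_singleton_iff.mpr hrd))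
      have hlt' : T < T ⊔ zpowers r := lt_of_le_of_ne le_sup_left fun h => hrT (by
        rw [h]; exact mem_sup_right (mem_zpowers r))
      have hle' : T ⊔ zpowers r ≤ (Q : Subgroup G) := sup_le hTQ (zpowers_le.mpr hrQ)
      have heq : T ⊔ zpowers r = (Q : Subgroup G) := by
        refine Subgroup.eq_of_le_of_card_ge hle' (hQc ▸ ?_)
        obtain ⟨i, hi⟩ := IsPGroup.iff_card.mp (P.2.to_le (inf_le_left : T ≤ (P : Subgroup G)))
        obtain ⟨j, hj⟩ := IsPGroup.iff_card.mp (Q.2.to_le hle')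
        have hl := ConjFunctor.card_lt_card_of_lt hlt'
        rw [hi, hj] at hl ⊢
        rw [← pow_succ']
        exact Nat.pow_le_pow_right (by norm_num) ((Nat.pow_lt_pow_iff_right (by norm_num)).mp hl)
      exact fun a ha => mem_centralizer_singleton_iff.mp (hle (heq ▸ ha))
    -- the centre of `Q` is cyclic
    obtain ⟨c, hc⟩ := MulAction.exists_smul_eq G Q P
    have hcen : ∀ z, z ∈ (Q : Subgroup G) → (∀ a ∈ (Q : Subgroup G), a * z = z * a) →
        c * z * c⁻¹ ∈ (P : Subgroup G) ⊓ centralizer ((P : Subgroup G) : Set G) := by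
      intro z hz hzc
      refine mem_inf.mpr ⟨hc ▸ mem_map_of_mem _ hz, mem_centralizer_iff.mpr fun g hg => ?_⟩
      rw [← hc] at hg
      obtain ⟨a, ha, rfl⟩ := hg
      show c * a * c⁻¹ * (c * z * c⁻¹) = c * z * c⁻¹ * (c * a * c⁻¹)
      calc c * a * c⁻¹ * (c * z * c⁻¹) = c * (a * z) * c⁻¹ := by group
        _ = c * (z * a) * c⁻¹ := by rw [hzc a ha]
        _ = _ := by group
    have hxQ := hcen x (hTQ hxT) fun a ha => hxR a (hQeq ▸ ha)
    have hdQ' := hcen d (mul_mem (hTQ hwT) (hTQ huT)) hdQ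
    set Z := (P : Subgroup G) ⊓ centralizer ((P : Subgroup G) : Set G)
    haveI := Fintype.ofFinite Z
    classical
    have hd' : d = 1 ∨ d = x := by
      by_contra hh
      push Not at hh
      have hcard := @IsCyclic.card_pow_eq_one_le Z _ _ _ hcyc 2 two_pos
      have hsub : ({1, ⟨_, hxQ⟩, ⟨_, hdQ'⟩} : Finset Z) ⊆ Finset.univ.filter fun a : Z => a ^ 2 = 1 := by
        intro a ha
        simp only [Finset.mem_insert, Finset.mem_singleton] at ha
        rw [Finset.mem_filter]
        refine ⟨Finset.mem_univ _, ?_⟩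
        rcases ha with rfl | rfl | rfl
        · simp
        · refine Subtype.ext ?_
          show (c * x * c⁻¹) ^ 2 = 1
          rw [conj_pow, sq, hsq x hxU]; group
        · refine Subtype.ext ?_
          show (c * d * c⁻¹) ^ 2 = 1
          rw [conj_pow, sq, hd2]; group
      have hc3 : ({1, ⟨_, hxQ⟩, ⟨_, hdQ'⟩} : Finset Z).card = 3 := by
        refine Finset.card_eq_three.mpr ⟨_, _, _, ?_, ?_, ?_, rfl⟩
        · intro h
          exact hx1 (conj_eq_one_iff.mp (congrArg Subtype.val h).symm)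
        · intro h
          exact hh.1 (conj_eq_one_iff.mp (congrArg Subtype.val h).symm)
        · intro h
          exact hh.2 (mul_left_cancel (mul_right_cancel (congrArg Subtype.val h))).symm
      have := Finset.card_le_card hsub
      omega
    have hgoal : u * r * u⁻¹ * r⁻¹ = d⁻¹⁻¹ ∨ u * r * u⁻¹ * r⁻¹ = d⁻¹ := by
      right
      rw [hd, hw, mul_inv_rev, mul_inv_rev, mul_inv_rev, inv_inv,
        inv_eq_of_mul_eq_one_right (hsq u huU)]
      simp only [mul_assoc]
    have hdinv : d⁻¹ = d := inv_eq_of_mul_eq_one_right hd2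
    rw [inv_inv, hdinv, or_self] at hgoal
    rcases hd' with h | h
    · exact Or.inl (hgoal.trans h)
    · exact Or.inr (hgoal.trans h)
  -- conclusion by generation
  haveI : IsMulCommutative U := ⟨⟨fun a b => Subtype.ext (hcomm a a.2 b b.2)⟩⟩
  have hcop : (Nat.card U).Coprime (Nat.card K) := by
    rw [hUcard, show (4 : ℕ) = 2 ^ 2 by norm_num]
    exact (Nat.coprime_two_left.mpr hK).pow_left 2
  have hKL : K ≤ centralizer (U : Set G) := by
    refine Coprime.le_of_noncyclic (A := U) IsKleinFour.not_isCyclic hUK hcop fun x hxU hx1 k hk => ?_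
    obtain ⟨hkK, hkx⟩ := mem_inf.mp hk
    obtain ⟨v, hvU, hv1, hvx, hvR⟩ := key x hxU hx1
    set R := pCoreOf 2 (centralizer ({x} : Set G))
    have hkv : k * v = v * k := by
      have hm1 : k * v * k⁻¹ * v⁻¹ ∈ K := by
        rw [show k * v * k⁻¹ * v⁻¹ = k * (v * k⁻¹ * v⁻¹) by group]
        exact K.mul_mem hkK ((mem_normalizer_iff.mp (hUK hvU) k⁻¹).mp (K.inv_mem hkK))
      have hm2 : k * v * k⁻¹ * v⁻¹ ∈ R :=
        R.mul_mem ((mem_normalizer_iff.mp (CharP.le_normalizer_pCoreOf _ hkx) v).mp hvR)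
          (R.inv_mem hvR)
      have h1 : k * v * k⁻¹ * v⁻¹ = 1 := CharP.eq_one_of_mem_of_coprime
        (CharP.pCoreOf_isPGroup _) hm2 (Nat.Coprime.coprime_dvd_left
          (orderOf_dvd_natCard (⟨_, hm1⟩ : K) |> fun h => by rwa [Subgroup.orderOf_mk] at h)
          (Nat.coprime_two_right.mpr hK))
      rwa [mul_inv_eq_one, mul_inv_eq_iff_eq_mul] at h1
    refine mem_centralizer_iff.mpr fun y hy => ?_
    have hkx' := mem_centralizer_singleton_iff.mp hkx
    rcases klein_cases hU4 hxU hvU hx1 hv1 (Ne.symm hvx) hy with h | h | h | h <;> subst h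
    · simp
    · exact hkx'.symm
    · exact hkv.symm
    · rw [mul_assoc, ← hkv, ← mul_assoc, ← hkx', mul_assoc]
  exact le_centralizer_iff.mp hKL

end Cfsg.Agent.Lib.FourCentralises
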